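import Cfsg.Agent.KM.Core
import Cfsg.Agent.KM.Mu.A
import Cfsg.Agent.TO.Can1
import Cfsg.Agent.DL.Dat.SubBox

/-!
# KM, characters of central defect and tori (helper41)

* `exists_w`, `dvd_all` : the degree times the order of a torus in the support divides the order of the group (any datum);
* `exists_tor`, `exists_tor_cen` : the same with a stable torus `cj y T`, also inside a connected centraliser;
* `syl_of_df` : a character of defect at most `ν |R|` gives a torus of `cen R` all of whose `l`-elements lie in `R`;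
* `syl_of_block` : the same for a toral defect group.
-/

set_option autoImplicit false
set_option linter.unusedSectionVars false

namespace Cfsg.Agent.KM.Uu

open Cfsg Cfsg.Agent.DL Cfsg.Agent.DL.Asm Cfsg.Agent.KZ.Lie Cfsg.Agent.LV.One Cfsg.Agent.Nodes.Reps Subgroup
open Cfsg.Agent.KM.Mu (df)

variable {p : ℕ} [Fact p.Prime] {k : Type} [Field k] [CharP k p] {Y : Type} [Group Y] {N : Type} [Fintype N]
  [DecidableEq N] {ρ : Y →* GL N k} {F : MulAut Y} {G : Subgroup Y} [IsAlgClosed k] {X : Datum p ρ F G}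

section QS

variable (hq : X.QS) (f : Fr X) [Fintype ↥(GF F G)] {χ : GF F G → ℂ}
include hq

theorem exists_w (h : χ 1 ≠ 0) : ∃ w, ∑ᶠ c, classInner χ (RW f w c) ≠ 0 := by
  by_contra! h1
  have := Fintype.ofFinite X.W
  refine h ?_
  rw [val_one f χ, finsum_congr (g := fun _ => (0 : ℂ)) fun w => ?_, finsum_zero, mul_zero]
  rw [finsum_congr (g := fun c => classInner χ (RW f w c) * (DL.Uni.pc' p (GF F G) / (sg X w * ordT X w))) fun c => by
    by_cases h : classInner χ (RW f w c) = 0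
    · rw [h, zero_mul, zero_mul]
    · rw [deg_div hq f (fx_of_ne f h)], ← finsum_mul, h1, zero_mul]

theorem dvd_all (hχ : IsIrrCharacter (GF F G) χ) {w : X.W} (h : ∑ᶠ c, classInner χ (RW f w c) ≠ 0) :
    charDegree χ * ordT X w ∣ Nat.card (GF F G) :=
  Deg.deg_mul_dvd hq f (Deg.lfE_of_bij hq f Deg.boxBij hχ) hχ
    (fun _ hl hp => Deg.deg_of_dwR hq f Deg.boxCnt D3.boxExp D3.boxPow Deg.boxBij (dwR X) hχ hl hp) h

end QS

variable (X) in
/-- **(U)** for any datum -/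
theorem exists_tor {χ : GF F G → ℂ} (hχ : IsIrrCharacter (GF F G) χ) :
    ∃ T ∈ tori X, charDegree χ * Nat.card ↥(T ⊓ GF F G) ∣ Nat.card (GF F G) := by
  obtain ⟨y, hy, hF, hq⟩ := X.exists_qs
  obtain ⟨f⟩ := nonempty_fr (X.conj hy hF)
  have := X.amb.finite_GF G
  have := Fintype.ofFinite ↥(GF F G)
  obtain ⟨w, hw⟩ := exists_w hq f (Blocks.Basic.irr_one_ne_zero hχ)
  exact ⟨_, X.tori_conj hy hF ▸ Tw_mem w, card_Tw (D := X.conj hy hF) w ▸ dvd_all hq f hχ hw⟩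

/-- **(U)** in a connected centraliser -/
theorem exists_tor_cen {Z : Set Y} (hZ : Z ⊆ X.T) (hF : ∀ a ∈ X.Sz Z, X.g a ∈ X.Sz Z) {χ : GF F (X.cen Z) → ℂ}
    (hχ : IsIrrCharacter (GF F (X.cen Z)) χ) : ∃ y ∈ X.cen Z, y⁻¹ * F y ∈ X.NN ∧
      charDegree χ * Nat.card ↥(cj y X.T ⊓ GF F G) ∣ Nat.card (GF F (X.cen Z)) := by
  obtain ⟨_, ⟨y, hy, rfl, h1⟩, h2⟩ := exists_tor (X.sub hZ hF rfl) hχ
  refine ⟨y, hy, (X.stable_iff (X.cen_le_G Z hy)).1 h1, ?_⟩
  have h3 : cj y X.T ≤ X.cen Z := fun t ht => by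
    have := mul_mem (mul_mem hy (X.T_le_cen Z (mem_cj.1 ht))) (inv_mem hy)
    rwa [show y * (y⁻¹ * t * y) * y⁻¹ = t by group] at this
  rwa [show cj y X.T ⊓ GF F G = cj y X.T ⊓ GF F (X.cen Z) from le_antisymm (fun t ht => ⟨ht.1, h3 ht.1, ht.2.2⟩)
    fun t ht => ⟨ht.1, X.cen_le_G Z ht.2.1, ht.2.2⟩]

/-- the `l`-elements of the finite torus lie in `R` -/
def SylIn (F : MulAut Y) (l : ℕ) (T R : Subgroup Y) : Prop := ∀ t ∈ T, F t = t → (∃ i : ℕ, t ^ l ^ i = 1) → t ∈ R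

theorem le_cj {R : Subgroup Y} (hT : R ≤ X.T) {y : Y} (hy : y ∈ X.cen R) : R ≤ cj y X.T := fun r hr => by
  rw [mem_cj, mul_assoc, X.cen_le_centralizer hT hy r hr, inv_mul_cancel_left]
  exact hT hr

theorem mem_of_fac {A R : Subgroup Y} [Finite A] {l : ℕ} [Fact l.Prime] (hA : ∀ a ∈ A, ∀ b ∈ A, a * b = b * a) (hR : R ≤ A)
    (hl : ∀ r ∈ R, ∃ i : ℕ, r ^ l ^ i = 1) (h : (Nat.card A).factorization l ≤ (Nat.card R).factorization l) {t : Y}
    (ht : t ∈ A) (h1 : ∃ i : ℕ, t ^ l ^ i = 1) : t ∈ R := by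
  let P : Subgroup A :=
    { carrier := {a | ∃ i : ℕ, a ^ l ^ i = 1}
      one_mem' := ⟨0, one_pow _⟩
      inv_mem' := fun ⟨i, h⟩ => ⟨i, by rw [inv_pow, h, inv_one]⟩
      mul_mem' := fun {a b} ⟨i, h⟩ ⟨j, h'⟩ => ⟨i + j, by
        rw [Commute.mul_pow (Subtype.ext (hA _ a.2 _ b.2)), pow_add, pow_mul, h, one_pow, mul_comm (l ^ i), pow_mul, h',
          one_pow, one_mul]⟩ }
  have hP : IsPGroup l P := fun a => a.2.imp fun _ h => Subtype.ext h
  have h2 : R.subgroupOf A ≤ P := fun a ha => (hl _ ha).imp fun _ h => Subtype.ext h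
  by_contra h3
  have h4 := Mu.fac_lt hP h2 fun e => h3 (show (⟨t, ht⟩ : A) ∈ R.subgroupOf A from
    e ▸ h1.imp fun _ h => Subtype.ext h)
  have h5 := Mu.fac_le (p := l) P.card_subgroup_dvd_card Nat.card_pos.ne'
  rw [Mu.card_sub hR] at h4
  omega

variable {l : ℕ} [hl : Fact l.Prime] {R : Subgroup Y}

/-- **(U)** for a character of the connected centraliser -/
theorem syl_of_deg (hT : R ≤ X.T) (hF : ∀ r ∈ R, F r = r) (hR : ∀ r ∈ R, ∃ i : ℕ, r ^ l ^ i = 1)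
    {χ : GF F (X.cen R) → ℂ} (hχ : IsIrrCharacter (GF F (X.cen R)) χ)
    (h : (Nat.card (GF F (X.cen R))).factorization l ≤ (charDegree χ).factorization l + (Nat.card R).factorization l) :
    ∃ y ∈ X.cen R, y⁻¹ * F y ∈ X.NN ∧ SylIn F l (cj y X.T) R := by
  obtain ⟨y, hy, h1, h2⟩ := exists_tor_cen hT (fun a => X.g_mem_Sz hT fun z hz => (hF z hz).symm ▸ hz) hχ
  have := X.amb.finite_GF G
  have := X.amb.finite_GF (X.cen R)
  have : Finite ↥(cj y X.T ⊓ GF F G) := Finite.of_injective _ (inclusion_injective inf_le_right)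
  have h3 := Mu.fac_le (p := l) h2 Nat.card_pos.ne'
  rw [Nat.factorization_mul (Blocks.Basic.charDegree_pos hχ).ne' Nat.card_pos.ne', Finsupp.add_apply] at h3
  have h4 : cj y X.T ≤ G := fun t ht => by
    have := mul_mem (mul_mem (X.cen_le_G _ hy) (X.T_le_G (mem_cj.1 ht))) (inv_mem (X.cen_le_G _ hy))
    rwa [show y * (y⁻¹ * t * y) * y⁻¹ = t by group] at this
  refine ⟨y, hy, h1, fun t ht h5 h6 => mem_of_fac (A := cj y X.T ⊓ GF F G) (fun a ha b hb => ?_)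
    (fun r hr => ⟨le_cj hT hy hr, X.T_le_G (hT hr), hF r hr⟩) hR (by omega) ⟨ht, h4 ht, h5⟩ h6⟩
  have h7 := X.T_comm (mem_cj.1 ha.1) (mem_cj.1 hb.1)
  rw [show a * b = y * (y⁻¹ * a * y * (y⁻¹ * b * y)) * y⁻¹ by group, h7]
  group

/-- **(U)** for a character of an overgroup -/
theorem syl_of_df (hT : R ≤ X.T) (hF : ∀ r ∈ R, F r = r) (hR : ∀ r ∈ R, ∃ i : ℕ, r ^ l ^ i = 1)
    {K : Type} [Group K] [Finite K] {j : K →* Y} (hj : Function.Injective j) (h1 : GF F (X.cen R) ≤ j.range)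
    (h2 : ∀ x, j x ∈ GF F G) (h3 : ∀ x, j x ∈ centralizer (R : Set Y)) (θ : IrrCharacter K)
    (h : df l θ ≤ (Nat.card R).factorization l) :
    ∃ y ∈ X.cen R, y⁻¹ * F y ∈ X.NN ∧ SylIn F l (cj y X.T) R := by
  have : ((GF F (X.cen R)).comap j).Normal := ⟨fun n hn g => by
    rw [mem_comap, map_mul, map_mul, map_inv]
    exact ⟨X.conj_mem_cen hT (h2 g).1 (h3 g) hn.1, (fix F).mul_mem ((fix F).mul_mem (h2 g).2 hn.2) ((fix F).inv_mem (h2 g).2)⟩⟩
  obtain ⟨η, hη⟩ := TID.Red.exists_ov ((GF F (X.cen R)).comap j).subtype θ.2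
  have h4 := Mu.df_le_of_ov (p := l) hη
  have h5 := Mu.df_add (p := l) η
  let e : (GF F (X.cen R)).comap j ≃* GF F (X.cen R) := MulEquiv.ofBijective (j.subgroupComap _)
    ⟨fun a b h => Subtype.ext (hj (congrArg Subtype.val h)), fun a => by
      obtain ⟨x, hx⟩ := h1 a.2
      exact ⟨⟨x, show j x ∈ _ from hx ▸ a.2⟩, Subtype.ext hx⟩⟩
  refine syl_of_deg (χ := fun g => η.1 (e.symm g)) hT hF hR (Characters.Core.isIrr_comp e.symm.toMonoidHom e.symm.surjective η.2) ?_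
  rw [← Nat.card_congr e.toEquiv, show charDegree (fun g => η.1 (e.symm g)) = charDegree η.1 by
    simp only [charDegree, map_one]]
  change _ ≤ BK.nu l η + _
  omega

/-- **(U)** for a toral defect group -/
theorem syl_of_block {M : Ideal AlgInt} (hM : IsPModular l M) {B : Set (IrrCharacter ↥(GF F G))} {D : Subgroup ↥(GF F G)}
    (hB : IsPBlock M B) (hD : IsDefectGroup l M B D) (hT : D.map (GF F G).subtype ≤ X.T) :
    ∃ y ∈ X.cen (D.map (GF F G).subtype), y⁻¹ * F y ∈ X.NN ∧ SylIn F l (cj y X.T) (D.map (GF F G).subtype) := by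
  have := X.amb.finite_GF G
  have h1 : D ≤ TO.Ce D := fun a ha b hb => Subtype.ext (X.T_comm (hT ⟨b, hb, rfl⟩) (hT ⟨a, ha, rfl⟩))
  obtain ⟨θ, H⟩ := TO.boxCAN0 _ l M B D hM hB hD h1
  refine syl_of_df (j := (GF F G).subtype.comp (TO.Ce D).subtype) hT (by rintro _ ⟨d, -, rfl⟩; exact d.2.2)
    (by
      rintro _ ⟨d, hd, rfl⟩
      obtain ⟨i, hi⟩ := H.pg ⟨d, hd⟩
      exact ⟨i, congrArg (fun x : D => ((x : GF F G) : Y)) hi⟩)
    (Subtype.val_injective.comp Subtype.val_injective) (fun x hx => ⟨⟨⟨x, X.cen_le_G _ hx.1, hx.2⟩, fun d hd =>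
      Subtype.ext (X.cen_le_centralizer hT hx.1 _ ⟨d, hd, rfl⟩)⟩, rfl⟩) (fun x => x.1.2)
    (by rintro x _ ⟨d, hd, rfl⟩; exact congrArg Subtype.val (x.2 d hd)) H.chr ?_
  have h2 := H.deg
  have h3 := Mu.df_add (p := l) H.chr
  have h4 := Mu.fac_mul (p := l) (D.subgroupOf (TO.Ce D)).card_mul_index Nat.card_pos.ne'
  rw [Mu.card_sub h1] at h4
  rw [card_map_of_injective Subtype.val_injective]
  change _ + (charDegree θ).factorization l = _ at h3
  change _ = (D.subgroupOf (TO.Ce D)).index.factorization l at h2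
  omega

end Cfsg.Agent.KM.Uu
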